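import Cfsg.Agent.Mrg.Omega.NO3S.EMany.LowExt

section


/-!
# Odd normal subgroups without fixed vectors for all minimal parabolics

* `odd_cen` : over `LB` with "no maximal overgroup", a normal subgroup `N` of odd order satisfies `N T ≠ H` and
  `[⟨A^H⟩, N] = 1`;
* `eq_one_of_norm` : `O` acts on `U` through a group of odd order, `w ∈ [U, O]` fixed by `O` is trivial;
* `com_of` : `T` normalises `O` and `Y`, `[Y, O] ≤ U`, `O` acts on `U` through a group of odd order, the `T`-fixed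
  vectors of `Y` are fixed by `O`: then the elements of odd order of `O` centralise `Y`.
-/

set_option autoImplicit false

namespace Cfsg.Agent.Omega.KL.StarX

open Subgroup Cfsg Cfsg.Agent.ZN Cfsg.Agent.ClassTwoFusion.Quad
open Cfsg.Agent.Omega.ML.MinFrame hiding comm_of_sq
open Cfsg.Agent.Omega.ML.Final Cfsg.Agent.Omega.NO3S.EMany.Low
open Cfsg.Agent.Omega.KL.Star.Core
open Cfsg.Agent.MinSimple.VModule (o2_isPGroup o2_le le_o2 le_normalizer_o2 o2_le_of_sylow oddGen oddGen_le oddGen_def)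
open Cfsg.Agent.MinSimple.MinParabolic (IsMinPar le_of_forall)

universe u v

section odd

variable {H : Type u} [Group H] [Finite H] {M : Type v} [Group M] [Finite M] [MulDistribMulAction H M]
  {T A : Subgroup H}

omit [Finite H] [Finite M] in
/-- a normal subgroup of odd order is centralised by `⟨A^H⟩` -/
theorem odd_cen (h : LB H M T A)
    (nmax : ¬ ∃ N : Subgroup H, N ≠ ⊤ ∧ ∀ R : Subgroup H, T ≤ R → R ≠ ⊤ → R ≤ N)
    {N : Subgroup H} (hN : N.Normal) (hNo : Odd (Nat.card N)) :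
    N ⊔ T ≠ ⊤ ∧ Km A ≤ centralizer (N : Set H) := by
  by_cases hNT : N ⊔ T = ⊤
  · -- `N T = H`
    exfalso
    let D : Subgroup H := N ⊓ centralizer {z : H | ∃ t ∈ T, ∃ a ∈ A, z = t * a * t⁻¹}
    have hDT : ∀ s ∈ T, ∀ d ∈ D, s * d * s⁻¹ ∈ D := by
      intro s hs d hd
      refine ⟨hN.conj_mem d hd.1 s, mem_centralizer_iff.2 ?_⟩
      rintro _ ⟨t, ht, a, ha, rfl⟩
      have h1 := mem_centralizer_iff.1 hd.2 _ ⟨s⁻¹ * t, mul_mem (inv_mem hs) ht, a, ha, rfl⟩
      have h2 := congrArg (fun w => s * w * s⁻¹) h1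
      simp only [mul_inv_rev, inv_inv] at h2
      calc t * a * t⁻¹ * (s * d * s⁻¹) = s * (s⁻¹ * t * a * (t⁻¹ * s) * d) * s⁻¹ := by group
        _ = s * (d * (s⁻¹ * t * a * (t⁻¹ * s))) * s⁻¹ := h2
        _ = s * d * s⁻¹ * (t * a * t⁻¹) := by group
    have hDn : T ≤ normalizer (D : Set H) := by
      intro s hs
      rw [mem_normalizer_iff]
      intro z
      refine ⟨hDT s hs z, fun hz => ?_⟩
      have h1 := hDT s⁻¹ (inv_mem hs) _ hz
      have h2 : s⁻¹ * (s * z * s⁻¹) * s⁻¹⁻¹ = z := by group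
      rwa [h2] at h1
    refine nmax ⟨D ⊔ T, ?_, ?_⟩
    · intro htop
      -- `N` centralises all `T`-conjugates of `A`
      have hcen : ∀ n ∈ N, ∀ t ∈ T, ∀ a ∈ A, t * a * t⁻¹ * n = n * (t * a * t⁻¹) := by
        intro e he t' ht' a ha
        have h2 : e ∈ ((D ⊔ T : Subgroup H) : Set H) := htop ▸ mem_top e
        rw [coe_mul_of_right_le_normalizer_left D T hDn] at h2
        obtain ⟨d, hd, t, ht, rfl⟩ := h2
        have h3 : t ∈ N := by
          have := N.mul_mem (N.inv_mem hd.1) he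
          simpa using this
        have h4 : t = 1 := eq_one_of_odd hNo h.two h3 ht
        rw [h4]
        simp only [mul_one]
        exact mem_centralizer_iff.1 hd.2 _ ⟨t', ht', a, ha, rfl⟩
      -- their closure is normal in `H`
      let K1 : Subgroup H := closure {z : H | ∃ t ∈ T, ∃ a ∈ A, z = t * a * t⁻¹}
      have hK1T : K1 ≤ T := by
        rw [closure_le]
        rintro _ ⟨t, ht, a, ha, rfl⟩
        exact T.mul_mem (T.mul_mem ht (h.BT ha)) (T.inv_mem ht)
      have hK1 : K1 ≤ o2 (⊤ : Subgroup H) := by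
        refine le_o2 le_top (h.two.to_le hK1T) ?_
        rw [← hNT]
        refine sup_le ?_ ?_
        · intro n hn
          have h1 : n ∈ centralizer (K1 : Set H) := by
            rw [centralizer_closure, mem_centralizer_iff]
            rintro _ ⟨t, ht, a, ha, rfl⟩
            exact hcen n hn t ht a ha
          exact centralizer_le_normalizer _ h1
        · have hconj : ∀ s ∈ T, ∀ k ∈ K1, s * k * s⁻¹ ∈ K1 := by
            intro s hs k hk
            have h1 : K1 ≤ K1.comap (MulAut.conj s).toMonoidHom := by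
              rw [closure_le]
              rintro _ ⟨t, ht, a, ha, rfl⟩
              refine subset_closure ⟨s * t, T.mul_mem hs ht, a, ha, ?_⟩
              change s * (t * a * t⁻¹) * s⁻¹ = _
              group
            exact h1 hk
          intro s hs
          rw [mem_normalizer_iff]
          intro z
          refine ⟨hconj s hs z, fun hz => ?_⟩
          have h1 := hconj s⁻¹ (inv_mem hs) _ hz
          have h2 : s⁻¹ * (s * z * s⁻¹) * s⁻¹⁻¹ = z := by group
          rwa [h2] at h1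
      exact h.nb fun a ha => hK1 (subset_closure ⟨1, one_mem T, a, ha, by group⟩)
    · intro R hTR hR
      have h1 : R ⊓ N ⊔ T = R := by
        apply le_antisymm (sup_le inf_le_left hTR)
        intro r hr
        have h1 : r ∈ N ⊔ T := hNT ▸ mem_top r
        rw [mem_sup_of_normal_left] at h1
        obtain ⟨n, hn, s, hs, rfl⟩ := h1
        refine mul_mem_sup ⟨?_, hn⟩ hs
        have := R.mul_mem hr (R.inv_mem (hTR hs))
        rwa [mul_inv_cancel_right] at this
      rw [← h1]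
      refine sup_le_sup_right ?_ T
      intro e he
      refine ⟨he.2, mem_centralizer_iff.2 ?_⟩
      rintro _ ⟨t, ht, a, ha, rfl⟩
      have h3 : t * a * t⁻¹ ∈ o2 R := (mem_normalizer_iff.1 (le_normalizer_o2 R (hTR ht)) a).1 (h.low R hTR hR ha)
      exact (comm_odd hN hNo he.2 he.1 h3).symm
  · exact ⟨hNT, Km_le inferInstance fun a ha => mem_centralizer_iff.2 fun n hn =>
      comm_odd hN hNo hn (mem_sup_left hn) (h.low _ le_sup_right hNT ha)⟩

end odd

section cop

variable {H : Type u} [Group H] [Finite H] {H' : Type u} [Group H'] [Finite H'] {M : Type v} [Group M] [Finite M]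
  [MulDistribMulAction H M]

omit [Finite H] [Finite M] in
/-- a vector fixed by `O` in `[U, O]` is trivial if `O` acts on `U` through a group of odd order -/
theorem eq_one_of_norm (sq : ∀ m : M, m * m = 1) (π : H →* H') {O : Subgroup H} (ho : Odd (Nat.card (O.map π)))
    {U : Subgroup M} (hk : ∀ k ∈ O, π k = 1 → ∀ u ∈ U, k • u = u) {w : M}
    (hw : w ∈ closure {w : M | ∃ k ∈ O, ∃ u ∈ U, w = (k • u) * u⁻¹}) (hf : ∀ k ∈ O, k • w = w) : w = 1 := by
  classical
  let _ : CommGroup M := { (inferInstance : Group M) with mul_comm := comm_of_sq sq }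
  have : Fintype (O.map π) := Fintype.ofFinite _
  -- a section
  have hs0 : ∀ h' : O.map π, ∃ k ∈ O, π k = h' := fun h' => by
    obtain ⟨k, hk, he⟩ := h'.2
    exact ⟨k, hk, he⟩
  choose s hsO hsπ using hs0
  -- the norm
  let ν : M →* M :=
    { toFun := fun m => ∏ k : O.map π, s k • m
      map_one' := by simp
      map_mul' := fun a b => by
        simp only [smul_mul']
        exact Finset.prod_mul_distrib }
  have hν : ∀ (k : H), k ∈ O → ∀ u ∈ U, ν (k • u) = ν u := by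
    intro k hk1 u hu
    change ∏ l : O.map π, s l • (k • u) = ∏ l : O.map π, s l • u
    refine Fintype.prod_equiv (Equiv.mulRight (⟨π k, mem_map_of_mem π hk1⟩ : O.map π)) _ _ fun l => ?_
    rw [Equiv.coe_mulRight]
    set l' := l * (⟨π k, mem_map_of_mem π hk1⟩ : O.map π) with hl'
    have h1 : (s l')⁻¹ * (s l * k) ∈ O := O.mul_mem (O.inv_mem (hsO _)) (O.mul_mem (hsO _) hk1)
    have h2 : π ((s l')⁻¹ * (s l * k)) = 1 := by
      rw [map_mul, map_inv, map_mul, hsπ, hsπ, hl']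
      simp
    have h3 := hk _ h1 h2 u hu
    rwa [mul_smul, inv_smul_eq_iff, mul_smul] at h3
  have h1 : ν w = 1 := by
    have h2 : closure {w : M | ∃ k ∈ O, ∃ u ∈ U, w = (k • u) * u⁻¹} ≤ ν.ker := by
      rw [closure_le]
      rintro _ ⟨k, hk, u, hu, rfl⟩
      change ν (k • u * u⁻¹) = 1
      rw [map_mul, map_inv, hν k hk u hu, mul_inv_cancel]
    exact h2 hw
  have h5 : ν w = w ^ Nat.card (O.map π) := by
    change ∏ l : O.map π, s l • w = _
    have h6 : ∀ l : O.map π, s l • w = w := fun l => hf _ (hsO l)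
    simp only [h6]
    rw [Finset.prod_const, Finset.card_univ, Nat.card_eq_fintype_card]
  rw [h1] at h5
  obtain ⟨k, hk⟩ := ho
  rw [hk, pow_succ, pow_mul, pow_two, sq, one_pow, one_mul] at h5
  exact h5.symm

/-- **coprime action** -/
theorem com_of (sq : ∀ m : M, m * m = 1) {T : Subgroup H} (hT : IsPGroup 2 T) (π : H →* H') {O : Subgroup H}
    (ho : Odd (Nat.card (O.map π))) (hTO : T ≤ normalizer (O : Set H)) {Y U : Subgroup M}
    (OY : ∀ k ∈ O, ∀ y ∈ Y, k • y ∈ Y) (TY : ∀ t ∈ T, ∀ y ∈ Y, t • y ∈ Y)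
    (OU : ∀ k ∈ O, ∀ y ∈ Y, (k • y) * y⁻¹ ∈ U) (Ui : ∀ g : H, ∀ u ∈ U, g • u ∈ U)
    (hk : ∀ k ∈ O, π k = 1 → ∀ u ∈ U, k • u = u)
    (cY : ∀ y ∈ Y, (∀ t ∈ T, t • y = y) → ∀ k ∈ O, k • y = y) : ∀ g ∈ O, Odd (orderOf g) → ∀ y ∈ Y, g • y = y := by
  classical
  have hcomm := comm_of_sq sq
  let W : Subgroup M := closure {w : M | ∃ k ∈ O, ∃ u ∈ Y ⊓ U, w = (k • u) * u⁻¹}
  have hWY : W ≤ Y ⊓ U := by
    rw [closure_le]
    rintro _ ⟨k, hk, y, hy, rfl⟩
    exact ⟨Y.mul_mem (OY k hk y hy.1) (Y.inv_mem hy.1), U.mul_mem (Ui k y hy.2) (U.inv_mem hy.2)⟩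
  have hTW : ∀ t ∈ T, ∀ w ∈ W, t • w ∈ W := by
    intro t ht w hw
    have h1 : W ≤ W.comap (MulDistribMulAction.toMonoidHom M t) := by
      rw [closure_le]
      rintro _ ⟨k, hk, y, hy, rfl⟩
      refine subset_closure ⟨t * k * t⁻¹, (mem_normalizer_iff.1 (hTO ht) k).1 hk, t • y, ⟨TY t ht y hy.1, Ui t y hy.2⟩, ?_⟩
      change t • ((k • y) * y⁻¹) = _
      rw [smul_mul', smul_inv', smul_smul, smul_smul]
      congr 2
      group
    exact h1 hw
  have hW : W = ⊥ := by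
    by_contra hne
    obtain ⟨w, hw, hw1, hwT⟩ := exists_fix sq hT hTW hne
    apply hw1
    exact eq_one_of_norm sq π ho (U := Y ⊓ U) (fun k hk1 hk2 u hu => hk k hk1 hk2 u hu.2) hw (cY w (hWY hw).1 hwT)
  intro g hg hgo y hy
  refine fix_of_odd sq hgo ?_
  have h1 : (g • y) * y⁻¹ ∈ Y ⊓ U := ⟨Y.mul_mem (OY g hg y hy) (Y.inv_mem hy), OU g hg y hy⟩
  have h2 : (g • ((g • y) * y⁻¹)) * ((g • y) * y⁻¹)⁻¹ ∈ W := subset_closure ⟨g, hg, _, h1, rfl⟩
  rw [hW, mem_bot] at h2
  exact mul_inv_eq_one.1 h2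

end cop

end Cfsg.Agent.Omega.KL.StarX

end

section


/-!
# THEOREM KL* with foreign minimal parabolics (bb #24309 (alpha))

`H` acts on the elementary abelian 2-group `M` (not necessarily faithfully), `T` is a Sylow 2-subgroup, `Z ≤ C_M(T)`,
`N_H(T)` normalises `Y`, the `T`-fixed vectors of `Y` are fixed by `H`; `A` is an exact atom on `M`, `A ≰ O₂(H)`,
`A ≤ O₂(C_H(Y) T)`; `D ≤ H` contains `N_H(T)` and `A ≤ O₂(D)`.  For every `T`-minimal `P`

* either the elements of odd order of `P` centralise `Y` and `P` moves a vector of `Z`,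
* or `P ≤ D` and: `P` fixes `Z` pointwise, or `P` normalises `Y` (it may move `Z` and `Y`).

* `exists_of_mover` : the end of the machine over `LB`;
* `InpX T A D Z Y` : this situation;
* **`InpX.exists_sysT`** : (ML) gives `Two.SysT` for a section of `(H, M)`;  `InpX.false_of`.
-/

set_option autoImplicit false

namespace Cfsg.Agent.Omega.KL.StarX

open Subgroup Cfsg Cfsg.Agent.ZN Cfsg.Agent.ClassTwoFusion.Quad
open Cfsg.Agent.Omega.ML.MinFrame hiding comm_of_sq
open Cfsg.Agent.Omega.ML.Final Cfsg.Agent.Omega.NO3S.EMany.Low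
open Cfsg.Agent.Omega.KL.Star.Core
open Cfsg.Agent.MinSimple.VModule (o2_isPGroup o2_le le_o2 le_normalizer_o2 o2_le_of_sylow oddGen oddGen_le oddGen_def
  le_normalizer_oddGen)
open Cfsg.Agent.MinSimple.MinParabolic (IsMinPar le_of_forall)
open Cfsg.Agent.Omega.ML.Ex.Two (SysT RedT ExitN LieT UThreeT)

universe u v

section

variable {H : Type u} [Group H] [Finite H] {M : Type v} [Group M] [Finite M] [MulDistribMulAction H M]
  {T A : Subgroup H}

/-- `g ∈ P` of odd order outside `T` modulo the kernel -/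
theorem exists_odd {H' : Type u} [Group H'] (π : H →* H') (hsyl : ¬ 2 ∣ T.index) {P : Subgroup H} (hTP : T ≤ P) (hP : ¬ P.map π ≤ T.map π) : ∃ g ∈ P, Odd (orderOf g) ∧ π g ≠ 1 := by
  by_contra hc
  push Not at hc
  apply hP
  have h3 : oddGen P ⊔ T = P := oddGen_sup hTP fun h2 => hsyl (h2.trans (relIndex_dvd_index_of_le hTP))
  rw [← h3, Subgroup.map_sup]
  refine sup_le ?_ le_rfl
  rw [map_le_iff_le_comap, oddGen_def, closure_le]
  rintro g ⟨hgP, hgo⟩
  change π g ∈ T.map π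
  rw [hc g hgP hgo]
  exact one_mem _

/-- **the end over `LB`**: one mover, no fixed vectors for the other minimal parabolics -/
theorem exists_of_mover (h : LB H M T A) (hM : MLK.{u, v}) {x : M} (tx : ∀ t ∈ T, t • x = x)
    {Y : Subgroup M} (NY : ∀ g ∈ normalizer (T : Set H), ∀ w ∈ Y, g • w ∈ Y)
    (cY : ∀ w ∈ Y, (∀ t ∈ T, t • w = w) → ∀ g : H, g • w = w)
    (hY : ¬ ∀ g : H, Odd (orderOf g) → ∀ w ∈ Y, g • w = w)
    (par : ∀ P : Subgroup H, IsMinPar T P → (∀ g ∈ P, Odd (orderOf g) → ∀ w ∈ Y, g • w = w) ∨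
      A ≤ o2 P ∧ ((∀ p ∈ P, p • x = x) ∨ ∀ p ∈ P, ∀ w ∈ Y, p • w ∈ Y))
    (mv : ∃ P : Subgroup H, IsMinPar T P ∧ (∀ g ∈ P, Odd (orderOf g) → ∀ w ∈ Y, g • w = w) ∧ ∃ p ∈ P, p • x ≠ x) :
    ∃ (H' : Type u) (_ : Group H') (_ : Finite H') (N : Type v) (_ : Group N) (_ : Finite N)
      (_ : MulDistribMulAction H' N) (T' A' : Subgroup H') (x' y' : N), SysT H' N T' A' x' y' := by
  have hx : ¬ ∀ g : H, g • x = x := by
    obtain ⟨P, -, -, p, -, hp⟩ := mv
    exact fun hc => hp (hc p)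
  have TY : ∀ t ∈ T, ∀ w ∈ Y, t • w ∈ Y := fun t ht => NY t (le_normalizer ht)
  obtain ⟨N, i1, i2, i3, A', x', u', c⟩ := core h hM tx hx TY hY
  -- block type
  have hPu0 : ∀ P : Subgroup H, T ≤ P → (∀ g ∈ P, Odd (orderOf g) → ∀ w ∈ Y, g • w = w) → ∀ p ∈ P, p • u' = u' := by
    intro P hTP hP
    have h3 : oddGen P ⊔ T = P := oddGen_sup hTP fun h2 => h.syl (h2.trans (relIndex_dvd_index_of_le hTP))
    have h4 : P ≤ MulAction.stabilizer H u' := by
      rw [← h3]
      refine sup_le ?_ fun t ht => c.tu t ht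
      rw [oddGen_def, closure_le]
      rintro g ⟨hgP, hgo⟩
      exact c.su g hgo fun w hw => hP g hgP hgo w hw
    exact fun p hp => h4 hp
  obtain ⟨P, hPm, hPY, p, hp, hpx⟩ := mv
  have hPx' : ∃ p ∈ P, p • x' ≠ x' := by
    by_contra hc
    push Not at hc
    exact hpx ((c.sx P hPm.le).1 hc p hp)
  have hPu : ∀ p ∈ P, p • u' = u' := hPu0 P hPm.le hPY
  -- shift
  obtain ⟨x1, hx1, hxs⟩ := c.lb.shift c.tx
  obtain ⟨u1, hu1, hus⟩ := c.lb.shift c.tu
  have tx1 : ∀ t ∈ T, t • x1 = x1 := fun t ht => (hxs t).2 (c.tx t ht)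
  have tu1 : ∀ t ∈ T, t • u1 = u1 := fun t ht => (hus t).2 (c.tu t ht)
  have mx1 : ¬ ∀ g : H, g • x1 = x1 := fun hc => c.mx fun g => (hxs g).1 (hc g)
  have mu1 : ¬ ∀ g : H, g • u1 = u1 := fun hc => c.mu fun g => (hus g).1 (hc g)
  obtain ⟨H', _, _, N', _, _, _, π, f, B, o⟩ := c.lb.exists_out hM tx1 mx1 hx1
  -- images of vectors
  have him : ∀ {m : N} (hm : m ∈ cmm N A') {g : H}, g • m = m → π g • f ⟨m, hm⟩ = f ⟨m, hm⟩ := by
    intro m hm g hg
    rw [← o.eqv g ⟨m, hm⟩]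
    exact congrArg f (Subtype.ext hg)
  have hne : ∀ {m : N} (hm : m ∈ cmm N A'), (∀ t ∈ T, t • m = m) → (¬ ∀ g : H, g • m = m) → f ⟨m, hm⟩ ≠ 1 := by
    intro m hm tm hc h1
    exact hc fun g => c.lb.fix_of_cvKm tm ((o.ker _).1 h1) g
  have hback : ∀ {m : N} (hm : m ∈ cmm N A'), (∀ t ∈ T, t • m = m) → ∀ R : Subgroup H, T ≤ R →
      (∀ g ∈ R, π g • f ⟨m, hm⟩ = f ⟨m, hm⟩) → ∀ g ∈ R, g • m = m := by
    intro m hm tm R hTR hR
    refine c.lb.fix_of_mod tm hTR (I := cv N (Km A' : Set H)) (fun w hw tw g _ => c.lb.fix_of_cvKm tw hw g)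
      fun g hg => ?_
    have h1 := hR g hg
    rw [← o.eqv g ⟨m, hm⟩, ← mul_inv_eq_one, ← map_inv, ← map_mul, o.ker] at h1
    exact h1
  set X : N' := f ⟨x1, hx1⟩ with hX
  set V : N' := f ⟨u1, hu1⟩ with hV
  have x1' : X ≠ 1 := hne hx1 tx1 mx1
  have y1' : V ≠ 1 := hne hu1 tu1 mu1
  have htx : ∀ t ∈ T.map π, t • X = X := by
    rintro _ ⟨t, ht, rfl⟩
    exact him hx1 (tx1 t ht)
  have hty : ∀ t ∈ T.map π, t • V = V := by
    rintro _ ⟨t, ht, rfl⟩
    exact him hu1 (tu1 t ht)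
  have hmv : ∃ R : Subgroup H', T.map π ≤ R ∧ (∀ r ∈ R, r • V = V) ∧ ∃ r ∈ R, r • X ≠ X := by
    refine ⟨P.map π, map_mono hPm.le, ?_, ?_⟩
    · rintro _ ⟨q, hq, rfl⟩
      exact him hu1 ((hus q).2 (hPu q hq))
    · by_contra hc
      push Not at hc
      obtain ⟨q, hq, hqx⟩ := hPx'
      exact hqx ((hxs q).1 (hback hx1 tx1 P hPm.le (fun g hg => hc _ ⟨g, hg, rfl⟩) q hq))
  have hxy : X ≠ V := by
    intro he
    obtain ⟨R, -, hR1, r, hr, hrx⟩ := hmv
    rw [he] at hrx
    exact hrx (hR1 r hr)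
  -- fixed vectors of normal subgroups
  have hnor1 : ∀ K : Subgroup H', K.Normal → ∀ m : N', m ≠ 1 → (∀ k ∈ K, k • m = m) → K = ⊥ := by
    intro K hK m hm hc
    have h1 : cv N' (K : Set H') = ⊤ := by
      refine (o.irr _ ?_).resolve_left ?_
      · intro g w hw k hk
        have h2 := hw (g⁻¹ * k * g) (by
          have := hK.conj_mem k hk g⁻¹
          rwa [inv_inv] at this)
        rwa [mul_smul, mul_smul, inv_smul_eq_iff] at h2
      · intro h2
        have h3 : m ∈ cv N' (K : Set H') := fun g hg => hc g hg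
        rw [h2, mem_bot] at h3
        exact hm h3
    rw [eq_bot_iff]
    intro k hk
    exact mem_bot.2 (o.faith k fun w => (h1 ▸ mem_top w : w ∈ cv N' (K : Set H')) k hk)
  have hAB : B ≤ A.map π := o.AB.trans (map_mono c.le)
  -- no maximal overgroup
  have hnmax : ¬ ∃ K : Subgroup H', K ≠ ⊤ ∧ ∀ R : Subgroup H', T.map π ≤ R → R ≠ ⊤ → R ≤ K := by
    rintro ⟨L, hL, hLm⟩
    by_cases hn : (⊤ : Subgroup H') ≤ normalizer ((T.map π : Subgroup H') : Set H')
    · exact o.lb.nb (o.lb.BT.trans (le_o2 le_top o.lb.two hn))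
    · obtain ⟨Q, hQ, hQt⟩ := KL.GenTool.exists_minPar_map π o.πs
        (⟨le_top, hn, L, lt_top_iff_ne_top.2 hL, fun K hK hlt => hLm K hK hlt.ne⟩ : IsMinPar (T.map π) ⊤)
      have hAQ : ¬ A ≤ o2 Q := by
        intro hA
        apply o.lb.nb
        refine hAB.trans ((map_mono hA).trans ?_)
        have := KL.GenTool.o2_map_le π Q
        rwa [hQt] at this
      have hQ1 : Q = ⊤ := by
        by_contra hne
        exact hAQ (h.low Q hQ.le hne)
      rcases par Q hQ with h1 | ⟨h1, -⟩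
      · exact hY fun g hg w hw => h1 g (hQ1 ▸ mem_top g) hg w hw
      · exact hAQ h1
  -- the kernel of `π` acts trivially on `[M, K₀]`
  have hkx' : ∀ k ∈ π.ker ⊔ T, k • x1 = x1 := by
    refine c.lb.fix_of_mod tx1 le_sup_right (I := cv N (Km A' : Set H))
      (fun w hw tw g _ => c.lb.fix_of_cvKm tw hw g) fun k hk => ?_
    have h1 : π k • f ⟨x1, hx1⟩ = f ⟨x1, hx1⟩ := by
      obtain ⟨k1, hk1, s, hs', rfl⟩ := mem_sup_of_normal_left.1 hk
      rw [map_mul, (MonoidHom.mem_ker).1 hk1, one_mul, ← o.eqv s ⟨x1, hx1⟩]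
      exact congrArg f (Subtype.ext (tx1 s hs'))
    rw [← o.eqv k ⟨x1, hx1⟩, ← mul_inv_eq_one, ← map_inv, ← map_mul, o.ker] at h1
    exact h1
  have hkx : ∀ k ∈ π.ker, k • x = x := by
    have h1 : ∀ k ∈ π.ker ⊔ T, k • x' = x' := fun k hk => (hxs k).1 (hkx' k hk)
    exact fun k hk => (c.sx _ le_sup_right).1 h1 k (mem_sup_left hk)
  have hkU : ∀ k ∈ π.ker, ∀ w ∈ cmm M A, k • w = w := by
    intro k hk w hw
    have h1 : k ∈ fxr H (orb (⊤ : Subgroup H) x) := by
      rw [mem_fxr_orb]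
      intro s _
      have h2 := hkx (s⁻¹ * k * s) (by
        have := (inferInstance : (π.ker).Normal).conj_mem k hk s⁻¹
        rwa [inv_inv] at this)
      rwa [mul_smul, mul_smul, inv_smul_eq_iff] at h2
    exact h1 w (h.cmm_le hM tx hx hw)
  refine ⟨H', inferInstance, inferInstance, N', inferInstance, inferInstance, inferInstance, T.map π, B, X, V,
    ⟨⟨x1', y1', htx, hty, hmv⟩, o.lb.sq, o.faith, o.irr, o.lb.two, o.lb.syl, o.lb.BT, o.lb.el,
    four_le o.lb.sq o.faith o.irr o.lb htx hty x1' y1' hxy, o.lb.exact, o.lb.atom, o.lb.low, hnmax, ?_, o.lb.KH⟩⟩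
  -- odd normal subgroups
  intro K hK hKo
  obtain ⟨hKT, hKc⟩ := odd_cen o.lb hnmax hK hKo
  by_contra hne
  -- `K` acts freely on the `T`-fixed vectors
  have hfree : ∀ m : N', m ≠ 1 → (∀ t ∈ T.map π, t • m = m) → ∀ k ∈ K, k • m = m → k = 1 := by
    intro m hm tm k hk hkm
    let F : Subgroup H' := K ⊓ MulAction.stabilizer H' m
    have hF : F.Normal := by
      rw [← normalizer_eq_top_iff, eq_top_iff, ← o.lb.gen]
      refine sup_le ?_ ?_
      · intro g hg
        have h1 : g ∈ centralizer (F : Set H') := by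
          rw [mem_centralizer_iff]
          intro z hz
          exact mem_centralizer_iff.1 (hKc hg) z hz.1
        exact centralizer_le_normalizer _ h1
      · have hconj : ∀ t ∈ T.map π, ∀ z ∈ F, t * z * t⁻¹ ∈ F := by
          intro t ht z hz
          refine mem_inf.2 ⟨hK.conj_mem z hz.1 t, MulAction.mem_stabilizer_iff.2 ?_⟩
          rw [mul_smul, mul_smul, tm t⁻¹ (inv_mem ht), MulAction.mem_stabilizer_iff.1 (mem_inf.1 hz).2, tm t ht]
        intro t ht
        rw [mem_normalizer_iff]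
        intro z
        refine ⟨hconj t ht z, fun hz => ?_⟩
        have h1 := hconj t⁻¹ (inv_mem ht) _ hz
        have e : t⁻¹ * (t * z * t⁻¹) * t⁻¹⁻¹ = z := by group
        rwa [e] at h1
    have h1 : F = ⊥ := hnor1 F hF m hm fun k hk => hk.2
    have h2 : k ∈ F := ⟨hk, hkm⟩
    rw [h1] at h2
    exact mem_bot.1 h2
  -- the key
  have hkey : ∀ Q : Subgroup H, T ≤ Q → Q.map π ≤ K ⊔ T.map π → ¬ Q.map π ≤ T.map π →
      ((∀ g ∈ Q, Odd (orderOf g) → ∀ w ∈ Y, g • w = w) ∨ (∀ p ∈ Q, p • x = x) ∨ ∀ p ∈ Q, ∀ w ∈ Y, p • w ∈ Y) →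
      False := by
    intro Q hTQ hQK hQT hQ
    obtain ⟨g, hgQ, hgo, hg1⟩ := exists_odd π h.syl hTQ hQT
    -- elements of odd order map to `K`
    have hoK : ∀ k ∈ Q, Odd (orderOf k) → π k ∈ K := by
      intro k hk hko
      have h1 : π k ∈ K ⊔ T.map π := hQK ⟨k, hk, rfl⟩
      have h2 : K.subgroupOf (K ⊔ T.map π) ⊔ (T.map π).subgroupOf (K ⊔ T.map π) = ⊤ := by
        rw [← subgroupOf_sup le_sup_left le_sup_right, subgroupOf_self]
      have h3 : (K.subgroupOf (K ⊔ T.map π)).Normal := hK.subgroupOf _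
      have h4 := mem_of_odd (K := K.subgroupOf (K ⊔ T.map π)) (T := (T.map π).subgroupOf (K ⊔ T.map π))
        o.lb.two.comap_subtype h2 (g := ⟨π k, h1⟩) (by
          rw [orderOf_mk]
          exact hko.of_dvd_nat (orderOf_map_dvd π k))
      exact h4
    have hsub : g • u' = u' ∨ g • x' = x' := by
      rcases hQ with h1 | h1 | h1
      · exact Or.inl (c.su g hgo (h1 g hgQ hgo))
      · exact Or.inr ((c.sx Q hTQ).2 h1 g hgQ)
      · left
        refine c.su g hgo ?_
        have hOQ : oddGen Q ≤ Q := oddGen_le Q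
        have hOK : (oddGen Q).map π ≤ K := by
          rw [map_le_iff_le_comap, oddGen_def, closure_le]
          rintro k ⟨hk, hko⟩
          exact hoK k hk hko
        have hOKm : oddGen Q ≤ Km A := by
          rw [oddGen_def, closure_le]
          rintro k ⟨hk, hko⟩
          exact mem_of_odd h.two h.gen hko
        refine com_of h.sq h.two π (O := oddGen Q) (hKo.of_dvd_nat (card_dvd_of_le hOK))
          (hTQ.trans (le_normalizer_oddGen Q)) (U := cmm M A) (fun k hk w hw => h1 k (hOQ hk) w hw) TY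
          (fun k hk w _ => mem_cmm (hOKm hk) w) (fun g u hu => smul_mem_cmm g hu)
          (fun k _ hk1 u hu => hkU k (MonoidHom.mem_ker.2 hk1) u hu) (fun w hw tw k _ => cY w hw tw k) g ?_ hgo
        rw [oddGen_def]
        exact subset_closure ⟨hgQ, hgo⟩
    rcases hsub with h1 | h1
    · exact hg1 (hfree V y1' hty _ (hoK g hgQ hgo) (him hu1 ((hus g).2 h1)))
    · exact hg1 (hfree X x1' htx _ (hoK g hgQ hgo) (him hx1 ((hxs g).2 h1)))
  by_cases hNT : K ⊔ T.map π ≤ normalizer ((T.map π : Subgroup H') : Set H')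
  · -- `[K, T] = 1`
    refine hkey (normalizer (T : Set H) ⊓ (K ⊔ T.map π).comap π)
      (le_inf le_normalizer (map_le_iff_le_comap.1 le_sup_right)) ?_ ?_ (Or.inr (Or.inr fun p hp => NY p hp.1))
    · rintro _ ⟨q, hq, rfl⟩
      exact hq.2
    · intro hc
      obtain ⟨⟨ν, hν⟩, hν1'⟩ := (Subgroup.ne_bot_iff_exists_ne_one).1 hne
      have hν1 : ν ≠ 1 := fun h1 => hν1' (Subtype.ext h1)
      obtain ⟨t, ht, n, hn, hνn⟩ := KL.GenTool.exists_normalizer_map π o.πs h.two h.syl (hNT (mem_sup_left hν))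
      have h1 : π n = t⁻¹ * ν := by rw [hνn]; group
      have h2 : π n ∈ K ⊔ T.map π := by
        rw [h1]
        exact mul_mem (inv_mem (mem_sup_right ht)) (mem_sup_left hν)
      have h3 : π n ∈ T.map π := hc ⟨n, ⟨hn, h2⟩, rfl⟩
      apply hν1
      refine eq_one_of_odd hKo o.lb.two hν ?_
      rw [hνn]
      exact mul_mem ht h3
  · -- a `T`-minimal `P' ≤ K T`
    obtain ⟨P', hP', hPK⟩ : ∃ P' : Subgroup H', IsMinPar (T.map π) P' ∧ P' ≤ K ⊔ T.map π := by
      by_contra hc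
      push Not at hc
      exact hNT (le_of_forall le_sup_right inf_le_right fun P hP1 hP2 => (hc P hP1 hP2).elim)
    obtain ⟨Q, hQ, rfl⟩ := KL.GenTool.exists_minPar_map π o.πs hP'
    refine hkey Q hQ.le hPK (fun hc => hP'.not_le (hc.trans le_normalizer)) ?_
    rcases par Q hQ with h1 | ⟨-, h1⟩
    · exact Or.inl h1
    · exact Or.inr h1

end

/-- **The input of THEOREM KL* with foreign minimal parabolics** -/
structure InpX {H : Type u} [Group H] {M : Type v} [Group M] [MulDistribMulAction H M] (T A D : Subgroup H)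
    (Z Y : Subgroup M) : Prop where
  sq : ∀ m : M, m * m = 1
  two : IsPGroup 2 T
  syl : ¬ 2 ∣ T.index
  tZ : ∀ z ∈ Z, ∀ t ∈ T, t • z = z
  NY : ∀ g ∈ normalizer (T : Set H), ∀ w ∈ Y, g • w ∈ Y
  /-- the `T`-fixed vectors of `Y` are fixed by `H` -/
  cY : ∀ w ∈ Y, (∀ t ∈ T, t • w = w) → ∀ g : H, g • w = w
  ND : normalizer (T : Set H) ≤ D
  AD : A ≤ o2 D
  /-- a `T`-minimal `P` moves `Z` and its elements of odd order centralise `Y`, or `P ≤ D` and `P` fixes `Z` pointwise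
  or normalises `Y` -/
  par : ∀ P : Subgroup H, IsMinPar T P →
    ((∃ z ∈ Z, ∃ p ∈ P, p • z ≠ z) ∧ ∀ g ∈ P, Odd (orderOf g) → ∀ w ∈ Y, g • w = w) ∨
    (P ≤ D ∧ ((∀ z ∈ Z, ∀ p ∈ P, p • z = z) ∨ ∀ p ∈ P, ∀ w ∈ Y, p • w ∈ Y))
  el : ∀ a ∈ A, a * a = 1
  exact : (cv M (A : Set H)).index = Nat.card A
  atom : ∀ C : Subgroup H, C ≤ A → C ≠ ⊥ → C ≠ A → Nat.card C < (cv M (C : Set H)).index
  nT : ¬ A ≤ o2 (⊤ : Subgroup H)
  AY : A ≤ o2 (fxr H Y ⊔ T)
  KH : IsKGroup H

namespace InpX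

variable {H : Type u} [Group H] [Finite H] {M : Type v} [Group M] [Finite M] [MulDistribMulAction H M]
  {T A D : Subgroup H} {Z Y : Subgroup M}

omit [Finite M] in
theorem AT (i : InpX T A D Z Y) : A ≤ T :=
  i.AD.trans (o2_le_of_sylow i.two fun h2 => i.syl (h2.trans (relIndex_dvd_index_of_le (le_normalizer.trans i.ND))))

/-- **THEOREM KL* with foreign minimal parabolics.** -/
theorem exists_sysT (i : InpX T A D Z Y) (hM : MLK.{u, v}) :
    ∃ (H' : Type u) (_ : Group H') (_ : Finite H') (N : Type v) (_ : Group N) (_ : Finite N)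
      (_ : MulDistribMulAction H' N) (T' A' : Subgroup H') (x' y' : N), SysT H' N T' A' x' y' := by
  -- `L` minimal
  obtain ⟨L, ⟨hTL, hAL⟩, hmin⟩ : ∃ L : Subgroup H, (T ≤ L ∧ ¬ A ≤ o2 L) ∧
      ∀ R : Subgroup H, (T ≤ R ∧ ¬ A ≤ o2 R) → R ≤ L → R = L := by
    have hfin : {L : Subgroup H | T ≤ L ∧ ¬ A ≤ o2 L}.Finite := Set.toFinite _
    obtain ⟨B, hB⟩ := hfin.exists_minimal ⟨⊤, le_top, i.nT⟩
    exact ⟨B, hB.1, fun C hC hCB => le_antisymm hCB (hB.2 hC hCB)⟩
  have hAT := i.AT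
  have hAL' : A ≤ L := hAT.trans hTL
  have e1 : ∀ {C : Subgroup H}, C ≤ L → (C.subgroupOf L).map L.subtype = C := fun {C} hC => by
    rw [subgroupOf_map_subtype, inf_eq_left.2 hC]
  have hcv : ∀ C : Subgroup L, cv M (C : Set L) = cv M ((C.map L.subtype : Subgroup H) : Set H) := by
    intro C
    ext m
    constructor
    · rintro hm _ ⟨c, hc, rfl⟩
      exact hm c hc
    · exact fun hm c hc => hm _ ⟨c, hc, rfl⟩
  have hcard : ∀ C : Subgroup L, Nat.card (C.map L.subtype) = Nat.card C := fun C =>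
    card_map_of_injective L.subtype_injective
  have hlb : LB L M (T.subgroupOf L) (A.subgroupOf L) := by
    refine ⟨i.sq, i.two.comap_subtype, fun h2 => ?_, fun x hx => hAT hx, fun b hb => Subtype.ext (i.el b hb), ?_, ?_, ?_, ?_,
      sec_KG.sub H i.KH L⟩
    · exact i.syl (h2.trans (relIndex_dvd_index_of_le hTL))
    · rw [hcv, e1 hAL', i.exact, ← hcard, e1 hAL']
    · intro C hC hC1 hCF
      rw [hcv, ← hcard]
      refine i.atom _ ?_ ?_ ?_
      · rintro _ ⟨c, hc, rfl⟩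
        exact hC hc
      · intro h1
        exact hC1 ((Subgroup.map_eq_bot_iff_of_injective _ L.subtype_injective).1 h1)
      · intro h1
        apply hCF
        rw [← h1]
        exact (comap_map_eq_self_of_injective L.subtype_injective C).symm
    · intro R hTR hR
      have h1 : R.map L.subtype ≠ L := by
        intro h2
        apply hR
        rw [eq_top_iff]
        intro r _
        have h3 : (r : H) ∈ R.map L.subtype := by
          rw [h2]
          exact r.2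
        obtain ⟨s, hs, hsr⟩ := h3
        rwa [← (Subtype.ext hsr : s = r)]
      have h2 : T ≤ R.map L.subtype := fun t ht => ⟨⟨t, hTL ht⟩, hTR ht, rfl⟩
      have h3 : A ≤ o2 (R.map L.subtype) := by
        by_contra hc
        exact h1 (hmin _ ⟨h2, hc⟩ (map_subtype_le R))
      exact fun x hx => KL.GenTool.o2_subgroupOf_le R (h3 hx)
    · intro hc
      apply hAL
      have h1 := (map_mono (f := L.subtype) hc).trans (KL.GenTool.o2_map_le L.subtype ⊤)
      rw [e1 hAL', ← MonoidHom.range_eq_map, L.range_subtype] at h1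
      exact h1
  -- normalizers of `T`
  have hNN : ∀ g : L, g ∈ normalizer ((T.subgroupOf L : Subgroup L) : Set L) → (g : H) ∈ normalizer (T : Set H) := by
    intro g hg
    rw [mem_normalizer_iff] at hg ⊢
    intro t
    constructor
    · intro ht
      exact (hg ⟨t, hTL ht⟩).1 ht
    · intro ht
      have h1 : t ∈ L := by
        have h2 := L.mul_mem (L.mul_mem (L.inv_mem g.2) (hTL ht)) g.2
        have e : (g : H)⁻¹ * (g * t * (g : H)⁻¹) * g = t := by group
        rwa [e] at h2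
      exact (hg ⟨t, h1⟩).2 ht
  -- a `T`-minimal subgroup of `L` outside `D`
  obtain ⟨P, hPm, hPD⟩ : ∃ P : Subgroup L, IsMinPar (T.subgroupOf L) P ∧ ¬ P.map L.subtype ≤ D := by
    by_contra hc
    push Not at hc
    apply hAL
    have h1 : (⊤ : Subgroup L) ≤ D.subgroupOf L := by
      refine le_of_forall (S := T.subgroupOf L) le_top (fun g hg => ?_) fun P hP _ p hp => ?_
      · rw [mem_subgroupOf]
        exact i.ND (hNN g hg.2)
      · rw [mem_subgroupOf]
        exact hc P hP ⟨p, hp, rfl⟩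
    have h2 : L ≤ D := fun g hg => h1 (mem_top (⟨g, hg⟩ : L))
    exact (le_inf i.AD hAL').trans (InpG.o2_le_o2_of_le h2)
  obtain ⟨⟨x, hxZ, _, ⟨p, hp, rfl⟩, hpx⟩, hPY⟩ :=
    (i.par _ (KL.GenTool.minPar_map_subtype hTL hPm)).resolve_right fun h1 => hPD h1.1
  have htx : ∀ t ∈ T.subgroupOf L, t • x = x := fun t ht => i.tZ x hxZ _ ht
  -- `L ≠ C_L(Y) T`
  have hY : ¬ ∀ g : L, Odd (orderOf g) → ∀ w ∈ Y, g • w = w := by
    intro hc
    apply hAL
    have h1 : oddGen L ⊔ T = L := oddGen_sup hTL fun h2 => i.syl (h2.trans (relIndex_dvd_index_of_le hTL))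
    have h2 : L ≤ fxr H Y ⊔ T := by
      rw [← h1]
      refine sup_le_sup_right ?_ T
      rw [oddGen_def, closure_le]
      rintro g ⟨hgL, hgo⟩ w hw
      exact hc ⟨g, hgL⟩ (by rwa [orderOf_mk]) w hw
    exact (le_inf i.AY hAL').trans (InpG.o2_le_o2_of_le h2)
  have hodd : ∀ R : Subgroup L, (∀ g ∈ R.map L.subtype, Odd (orderOf g) → ∀ w ∈ Y, g • w = w) →
      ∀ g ∈ R, Odd (orderOf g) → ∀ w ∈ Y, g • w = w := by
    intro R hR g hg hgo w hw
    refine hR _ ⟨g, hg, rfl⟩ ?_ w hw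
    rwa [Subgroup.coe_subtype, orderOf_coe]
  refine exists_of_mover hlb hM htx (Y := Y) (fun g hg w hw => i.NY g (hNN g hg) w hw)
    (fun w hw tw g => i.cY w hw (fun t ht => tw ⟨t, hTL ht⟩ ht) g) hY (fun R hR => ?_)
    ⟨P, hPm, hodd P hPY, p, hp, hpx⟩
  rcases i.par _ (KL.GenTool.minPar_map_subtype hTL hR) with h1 | ⟨h1, h2⟩
  · exact Or.inl (hodd R h1.2)
  · refine Or.inr ⟨fun a ha => ?_, ?_⟩
    · have h3 : T ≤ R.map L.subtype := (KL.GenTool.minPar_map_subtype hTL hR).le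
      exact KL.GenTool.o2_subgroupOf_le R (mem_subgroupOf.2 (((le_inf i.AD (hAT.trans h3)).trans
        (InpG.o2_le_o2_of_le h1)) ha))
    · rcases h2 with h2 | h2
      · exact Or.inl fun q hq => h2 x hxZ _ ⟨q, hq, rfl⟩
      · exact Or.inr fun q hq w hw => h2 _ ⟨q, hq, rfl⟩ w hw

/-- **THEOREM KL* with foreign minimal parabolics**, with EXT -/
theorem false_of (hM : MLK.{u, v}) (hE : ML.Ex.Two.Ext.{u, v}) (i : InpX T A D Z Y) : False := by
  obtain ⟨H', i1, i2, N, i3, i4, i5, T', A', x', y', h⟩ := i.exists_sysT hM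
  exact hE H' N T' A' x' y' h

end InpX

end Cfsg.Agent.Omega.KL.StarX

end
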